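import Groth.Agent.EtpbcB.Horseshoe

set_option autoImplicit false
set_option backward.isDefEq.respectTransparency false
universe v u

/-!
For a cochain complex `I` in nonnegative degrees, the exact complex `P I` with terms
`I^n ⊕ I^{n-1}` and the degreewise split epimorphism `P I ⟶ I`.  As a consequence, an injective
resolution of `G` mapping degreewise split epimorphically onto a given resolution of `F`, over a
given morphism `G ⟶ F`.
-/

open CategoryTheory CategoryTheory.Limits ZeroObject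

namespace K357.Contr

open Groth.Agent.EtpbcB.Horseshoe

variable {C : Type u} [Category.{v} C] [Abelian C] (I : CochainComplex C ℕ)

/-- The previous term, zero in degree `0`. -/
noncomputable def prv : ℕ → C
  | 0 => 0
  | n + 1 => I.X n

/-- The differential out of the previous term. -/
noncomputable def prd : ∀ n, prv I n ⟶ I.X n
  | 0 => 0
  | n + 1 => I.d n (n + 1)

lemma prd_d (n : ℕ) : prd I n ≫ I.d n (n + 1) = 0 := by
  cases n with
  | zero => exact zero_comp
  | succ n => exact I.d_comp_d _ _ _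

/-- The terms of the path complex. -/
noncomputable abbrev PX (n : ℕ) : C := I.X n ⊞ prv I n

/-- First projection. -/
noncomputable def f₁ (n : ℕ) : PX I n ⟶ I.X n := biprod.fst

/-- Second projection. -/
noncomputable def f₂ (n : ℕ) : PX I n ⟶ prv I n := biprod.snd

/-- Second projection in positive degrees. -/
noncomputable def f₂' (n : ℕ) : PX I (n + 1) ⟶ I.X n := biprod.snd

/-- First inclusion. -/
noncomputable def i₁ (n : ℕ) : I.X n ⟶ PX I n := biprod.inl

lemma i₁_f₁ (n : ℕ) : i₁ I n ≫ f₁ I n = 𝟙 _ := biprod.inl_fst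
lemma i₁_f₂ (n : ℕ) : i₁ I n ≫ f₂ I n = 0 := biprod.inl_snd

lemma PX_ext {A : C} {n : ℕ} (x y : A ⟶ PX I n) (h1 : x ≫ f₁ I n = y ≫ f₁ I n)
    (h2 : x ≫ f₂ I n = y ≫ f₂ I n) : x = y := biprod.hom_ext _ _ h1 h2

lemma PX_ext' {A : C} {n : ℕ} (x y : A ⟶ PX I (n + 1)) (h1 : x ≫ f₁ I _ = y ≫ f₁ I _)
    (h2 : x ≫ f₂' I n = y ≫ f₂' I n) : x = y := biprod.hom_ext _ _ h1 h2

/-- The differentials of the path complex. -/
noncomputable def Pd (n : ℕ) : PX I n ⟶ PX I (n + 1) :=
  (biprod.lift (f₁ I n ≫ I.d n (n + 1)) (f₁ I n - f₂ I n ≫ prd I n) :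
    PX I n ⟶ I.X (n + 1) ⊞ I.X n)

lemma Pd_f₁ (n : ℕ) : Pd I n ≫ f₁ I (n + 1) = f₁ I n ≫ I.d n (n + 1) := biprod.lift_fst _ _

lemma Pd_f₂' (n : ℕ) : Pd I n ≫ f₂' I n = f₁ I n - f₂ I n ≫ prd I n := biprod.lift_snd _ _

lemma f₂_prd (n : ℕ) : f₂ I (n + 1) ≫ prd I (n + 1) = f₂' I n ≫ I.d n (n + 1) := rfl

lemma Pd_Pd (n : ℕ) : Pd I n ≫ Pd I (n + 1) = 0 := by
  apply PX_ext'
  · rw [Category.assoc, Pd_f₁, ← Category.assoc, Pd_f₁, Category.assoc, I.d_comp_d, comp_zero,
      zero_comp]
  · rw [Category.assoc, Pd_f₂', Preadditive.comp_sub, Pd_f₁, zero_comp, f₂_prd, ← Category.assoc,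
      Pd_f₂', Preadditive.sub_comp, Category.assoc, prd_d, comp_zero, sub_zero, sub_self]

/-- The path complex. -/
noncomputable def P : CochainComplex C ℕ :=
  CochainComplex.of (PX I) (Pd I) (Pd_Pd I)

lemma P_d (n : ℕ) : (P I).d n (n + 1) = Pd I n := by simp [P]

/-- The projection. -/
noncomputable def pr : P I ⟶ I where
  f n := f₁ I n
  comm' := by
    rintro i j (rfl : i + 1 = j)
    rw [P_d]
    exact (Pd_f₁ I i).symm

lemma mono_P_d_zero : Mono ((P I).d 0 1) := by
  rw [P_d, Preadditive.mono_iff_cancel_zero]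
  intro A x hx
  have h1 := hx =≫ f₂' I 0
  rw [Category.assoc, Pd_f₂', zero_comp, Preadditive.comp_sub] at h1
  have h2 : f₂ I 0 ≫ prd I 0 = 0 := comp_zero
  rw [h2, comp_zero, sub_zero] at h1
  apply PX_ext
  · rw [zero_comp]; exact h1
  · have h : IsZero (prv I 0) := isZero_zero C
    exact h.eq_of_tgt _ _

lemma P_exactAt (n : ℕ) : (P I).ExactAt (n + 1) := by
  rw [HomologicalComplex.exactAt_iff' _ n (n + 1) (n + 2) (by simp) (by simp),
    ShortComplex.exact_iff_exact_up_to_refinements]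
  intro A x hx
  change A ⟶ PX I (n + 1) at x
  have hx' : x ≫ Pd I (n + 1) = 0 := by
    rw [← P_d]; exact hx
  have h1 := hx' =≫ f₂' I (n + 1)
  rw [Category.assoc, Pd_f₂', zero_comp, Preadditive.comp_sub, f₂_prd] at h1
  refine ⟨A, 𝟙 A, inferInstance, x ≫ f₂' I n ≫ i₁ I n, ?_⟩
  rw [Category.id_comp]
  change x = (x ≫ f₂' I n ≫ i₁ I n) ≫ (P I).d n (n + 1)
  rw [P_d]
  apply PX_ext'
  · rw [Category.assoc, Category.assoc, Category.assoc, Pd_f₁, ← Category.assoc (i₁ I n), i₁_f₁,
      Category.id_comp]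
    exact sub_eq_zero.1 h1
  · rw [Category.assoc, Category.assoc, Category.assoc, Pd_f₂', Preadditive.comp_sub, i₁_f₁,
      ← Category.assoc (i₁ I n), i₁_f₂, zero_comp, sub_zero, Category.comp_id]

/-- The terms of the path complex of a complex of injectives are injective. -/
lemma P_injective (h : ∀ n, Injective (I.X n)) (n : ℕ) : Injective ((P I).X n) := by
  change Injective (I.X n ⊞ prv I n)
  have : Injective (prv I n) := by
    cases n with
    | zero => change Injective (0 : C); infer_instance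
    | succ n => exact h n
  infer_instance

section Main

variable {I} {F G : C} (α : G ⟶ F) (I : InjectiveResolution F) (J : InjectiveResolution G)

/-- The middle complex `J ⊕ P I`. -/
noncomputable def M : CochainComplex C ℕ :=
  tcx J.cocomplex (P I.cocomplex) (fun _ => 0) (fun _ => by simp)

lemma M_exactAt (n : ℕ) : (M I J).ExactAt (n + 1) :=
  (tsc_shortExact J.cocomplex (P I.cocomplex) (fun _ => 0) (fun _ => by simp)).exactAt_X₂ (n + 1)
    (J.cocomplex_exactAt_succ n) (P_exactAt I.cocomplex n)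

lemma M_d (n : ℕ) : (M I J).d n (n + 1) =
    biprod.desc (J.cocomplex.d n (n + 1) ≫ biprod.inl)
      ((P I.cocomplex).d n (n + 1) ≫ biprod.inr) :=
  (tcx_d _ _ _ _ n).trans (by rw [zero_comp, zero_add])

/-- The augmentation. -/
noncomputable def aug : G ⟶ (M I J).X 0 := J.ι.f 0 ≫ biprod.inl

lemma aug_d : aug I J ≫ (M I J).d 0 1 = 0 := by
  rw [M_d]
  have h3 : J.ι.f 0 ≫ J.cocomplex.d 0 1 = 0 := J.ι_f_zero_comp_complex_d
  change (J.ι.f 0 ≫ biprod.inl) ≫ _ = 0
  rw [Category.assoc, biprod.inl_desc, reassoc_of% h3, zero_comp]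

instance mono_aug : Mono (aug I J) := by
  change Mono (J.ι.f 0 ≫ biprod.inl)
  infer_instance

lemma aug_exact : (ShortComplex.mk _ _ (aug_d I J)).Exact := by
  rw [ShortComplex.exact_iff_exact_up_to_refinements]
  intro A x hx
  change A ⟶ J.cocomplex.X 0 ⊞ (P I.cocomplex).X 0 at x
  have hx' : x ≫ (M I J).d 0 1 = 0 := hx
  rw [M_d] at hx'
  obtain ⟨a, b, rfl⟩ : ∃ a b, x = biprod.lift a b :=
    ⟨x ≫ biprod.fst, x ≫ biprod.snd, by apply biprod.hom_ext <;> simp⟩
  rw [biprod.lift_desc] at hx'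
  have ha : a ≫ J.cocomplex.d 0 1 = 0 := by
    have := hx' =≫ biprod.fst
    simpa using this
  have hb : b ≫ (P I.cocomplex).d 0 1 = 0 := by
    have := hx' =≫ biprod.snd
    simpa using this
  have hb' : b = 0 := by
    have := mono_P_d_zero I.cocomplex
    rw [← cancel_mono ((P I.cocomplex).d 0 1), hb, zero_comp]
  subst hb'
  refine ⟨A, 𝟙 A, inferInstance, J.exact₀.lift a ha, ?_⟩
  have h := J.exact₀.lift_f a ha
  change 𝟙 A ≫ biprod.lift a 0 = J.exact₀.lift a ha ≫ J.ι.f 0 ≫ biprod.inl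
  rw [Category.id_comp, reassoc_of% h]
  apply biprod.hom_ext <;> simp

/-- The resolution. -/
noncomputable def res : InjectiveResolution G :=
  resOf (M I J) (fun n => by
    have := P_injective I.cocomplex (fun n => inferInstance) n
    change Injective (J.cocomplex.X n ⊞ (P I.cocomplex).X n)
    infer_instance) (aug I J) (aug_d I J) (aug_exact I J) inferInstance
    (M_exactAt I J)

/-- The map to the given resolution. -/
noncomputable def β : (res I J).cocomplex ⟶ I.cocomplex :=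
  { f := fun n => (biprod.desc ((InjectiveResolution.desc α I J).f n) ((pr I.cocomplex).f n) :
      J.cocomplex.X n ⊞ (P I.cocomplex).X n ⟶ I.cocomplex.X n)
    comm' := by
      rintro i j (rfl : i + 1 = j)
      change _ = (M I J).d i (i + 1) ≫ _
      rw [M_d]
      apply biprod.hom_ext' <;> simp }

lemma ι_β : (res I J).ι ≫ β α I J = (CochainComplex.single₀ C).map α ≫ I.ι := by
  apply (CochainComplex.fromSingle₀Equiv _ _).injective
  apply Subtype.ext
  have h : J.ι.f 0 ≫ (InjectiveResolution.desc α I J).f 0 = α ≫ I.ι.f 0 :=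
    InjectiveResolution.desc_commutes_zero α I J
  have h1 : (res I J).ι.f 0 = aug I J := resOf_ι_f_zero _ _ _ _ _ _ _
  have h2 : ((CochainComplex.single₀ C).map α ≫ I.ι).f 0 = α ≫ I.ι.f 0 := by simp
  have h3 : ((res I J).ι ≫ β α I J).f 0 = α ≫ I.ι.f 0 := by
    rw [HomologicalComplex.comp_f, h1]
    change (J.ι.f 0 ≫ biprod.inl) ≫ (biprod.desc _ _ :
      J.cocomplex.X 0 ⊞ (P I.cocomplex).X 0 ⟶ I.cocomplex.X 0) = _
    rw [Category.assoc, biprod.inl_desc, h]
  simpa using h3.trans h2.symm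

/-- A split epimorphism is the first projection of a biproduct decomposition. -/
lemma exists_biprod_iso {X Y : C} (π : X ⟶ Y) (s : Y ⟶ X) (h : s ≫ π = 𝟙 Y) :
    ∃ (K : C) (e : X ≅ Y ⊞ K), π = e.hom ≫ biprod.fst := by
  refine ⟨kernel π, ⟨biprod.lift π (kernel.lift π (𝟙 X - π ≫ s) (by simp [h])),
    biprod.desc s (kernel.ι π), ?_, ?_⟩, by simp⟩
  · simp
  · apply biprod.hom_ext'
    · apply biprod.hom_ext
      · simp [h]
      · rw [← cancel_mono (kernel.ι π)]
        simp [reassoc_of% h]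
    · apply biprod.hom_ext
      · simp
      · rw [← cancel_mono (kernel.ι π)]
        simp

lemma exists_iso (p : ℕ) : ∃ (K : C) (e : (res I J).cocomplex.X p ≅ I.cocomplex.X p ⊞ K),
    (β α I J).f p = e.hom ≫ biprod.fst := by
  refine exists_biprod_iso ((β α I J).f p) (i₁ I.cocomplex p ≫
    (biprod.inr : (P I.cocomplex).X p ⟶ J.cocomplex.X p ⊞ (P I.cocomplex).X p)) ?_
  change (i₁ I.cocomplex p ≫ biprod.inr) ≫ (biprod.desc _ _ :
      J.cocomplex.X p ⊞ (P I.cocomplex).X p ⟶ I.cocomplex.X p) = _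
  rw [Category.assoc, biprod.inr_desc]
  exact i₁_f₁ I.cocomplex p

end Main

end K357.Contr
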