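import Mathlib.RingTheory.AdicCompletion.Basic
import Mathlib.RingTheory.Noetherian.Basic
import Mathlib.RingTheory.Finiteness.Ideal
import Mathlib.RingTheory.Ideal.Operations
import Mathlib.Algebra.Module.Submodule.Map

set_option autoImplicit false
universe u

/-!
Filtered modules over complete Noetherian rings: finiteness of the associated graded pieces and
goodness of the filtration.
-/

namespace K357.FilComplete

open Submodule

variable {S : Type u} [CommRing S] (J : Ideal S) {M : Type u} [AddCommGroup M] [Module S M]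

/-- Limits of `J`-adically convergent series in a finitely generated submodule. -/
theorem exists_limit [IsAdicComplete J S] {r : ℕ} (x : Fin r → M) (j : ℕ) (n : ℕ → M)
    (hn : ∀ k, n k ∈ J ^ (j + k) • span S (Set.range x)) :
    ∃ y ∈ J ^ j • span S (Set.range x), ∀ k, y - ∑ l ∈ Finset.range k, n l ∈
      J ^ k • span S (Set.range x) := by
  have h1 : ∀ k, ∃ a : Fin r → S, (∀ i, a i ∈ J ^ (j + k)) ∧ ∑ i, a i • x i = n k := by
    intro k
    obtain ⟨a, ha, hs⟩ := (mem_ideal_smul_span_iff_exists_sum _ x _).1 (hn k)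
    refine ⟨a, ha, ?_⟩
    rw [← hs, Finsupp.sum_fintype]
    intro i; exact zero_smul _ _
  choose a ha has using h1
  have h2 : ∀ i, ∃ L : S, ∀ k, ∑ l ∈ Finset.range k, a l i ≡ L [SMOD (J ^ k • ⊤ : Submodule S S)] := by
    intro i
    refine IsPrecomplete.prec (inferInstance : IsPrecomplete J S) (fun {m k} hmk => ?_)
    rw [SModEq.comm, SModEq.sub_mem, ← Finset.sum_range_add_sum_Ico _ hmk, add_sub_cancel_left]
    refine Submodule.sum_mem _ (fun l hl => ?_)
    rw [smul_eq_mul, Ideal.mul_top]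
    exact Ideal.pow_le_pow_right ((Finset.mem_Ico.1 hl).1.trans (Nat.le_add_left _ _)) (ha l i)
  choose L hL using h2
  have h3 : ∀ i k, L i - ∑ l ∈ Finset.range k, a l i ∈ J ^ k := by
    intro i k
    have := (SModEq.sub_mem.1 (hL i k).symm)
    rwa [smul_eq_mul, Ideal.mul_top] at this
  have h4 : ∀ i, L i ∈ J ^ j := by
    intro i
    have h5 : ∑ l ∈ Finset.range j, a l i ∈ J ^ j :=
      Submodule.sum_mem _ (fun l _ => Ideal.pow_le_pow_right (Nat.le_add_right _ _) (ha l i))
    have := (J ^ j).add_mem (h3 i j) h5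
    rwa [sub_add_cancel] at this
  refine ⟨∑ i, L i • x i, ?_, fun k => ?_⟩
  · exact Submodule.sum_mem _ (fun i _ => smul_mem_smul (h4 i) (subset_span ⟨i, rfl⟩))
  · have h6 : ∑ l ∈ Finset.range k, n l = ∑ i, (∑ l ∈ Finset.range k, a l i) • x i := by
      simp_rw [← has, Finset.sum_smul]
      exact Finset.sum_comm
    rw [h6, ← Finset.sum_sub_distrib]
    simp_rw [← sub_smul]
    exact Submodule.sum_mem _ (fun i _ => smul_mem_smul (h3 i k) (subset_span ⟨i, rfl⟩))

variable (F : ℤ → Submodule S M) (hF : Antitone F)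
    (hJ : ∀ p : ℤ, J • F p ≤ F (p + 1)) (hsep : ⨅ p : ℤ, F p = ⊥)

/-- A finitely generated submodule generating a graded piece. -/
theorem exists_gen (p : ℤ) (h : (map (F (p + 1)).mkQ (F p)).FG) :
    ∃ (r : ℕ) (x : Fin r → M), span S (Set.range x) ≤ F p ∧
      F p ≤ span S (Set.range x) ⊔ F (p + 1) := by
  classical
  obtain ⟨t, ht⟩ := h
  have h1 : (t : Set (M ⧸ F (p + 1))) ⊆ (F (p + 1)).mkQ '' (F p : Set M) := by
    intro y hy
    have : y ∈ map (F (p + 1)).mkQ (F p) := by rw [← ht]; exact subset_span hy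
    exact this
  obtain ⟨s, hs, hst⟩ := Finset.subset_set_image_iff.1 h1
  refine ⟨s.card, fun i => (s.equivFin.symm i : M), ?_, ?_⟩
  · rw [span_le]
    rintro _ ⟨i, rfl⟩
    exact hs (s.equivFin.symm i).2
  · have hr : Set.range (fun i => (s.equivFin.symm i : M)) = (s : Set M) := by
      ext y
      constructor
      · rintro ⟨i, rfl⟩
        exact (s.equivFin.symm i).2
      · intro hy
        exact ⟨s.equivFin ⟨y, hy⟩, by simp⟩
    rw [hr]
    intro m hm
    have h2 : (F (p + 1)).mkQ m ∈ map (F (p + 1)).mkQ (span S (s : Set M)) := by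
      rw [map_span, ← Finset.coe_image, hst, ht]
      exact ⟨m, hm, rfl⟩
    obtain ⟨n, hn, hnm⟩ := h2
    have h3 : m - n ∈ F (p + 1) := by
      rw [← (F (p + 1)).ker_mkQ, LinearMap.mem_ker, map_sub, hnm, sub_self]
    have := add_mem (mem_sup_left hn : n ∈ span S (s : Set M) ⊔ F (p + 1)) (mem_sup_right h3)
    rwa [add_sub_cancel] at this

include hJ in
/-- `F (p + k) ≤ J ^ k • N + F (p + k + 1)`. -/
theorem le_pow_smul (p : ℤ) (N : Submodule S M) (hN : F p ≤ N ⊔ F (p + 1))
    (h : ∀ q : ℤ, p ≤ q → F (q + 1) = J • F q ⊔ F (q + 2)) (k : ℕ) :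
    F (p + k) ≤ J ^ k • N ⊔ F (p + k + 1) := by
  induction k with
  | zero => simpa using hN
  | succ k ih =>
    have h1 : F (p + (k + 1 : ℕ)) = J • F (p + k) ⊔ F (p + k + 2) := by
      have := h (p + k) (by omega)
      rw [← this]; congr 1; push_cast; ring
    have h2 : p + (k + 1 : ℕ) + 1 = p + k + 2 := by push_cast; ring
    rw [h1, h2]
    refine sup_le ?_ le_sup_right
    refine (smul_mono_right J ih).trans ?_
    rw [smul_sup, ← mul_smul, ← pow_succ']
    refine sup_le_sup le_rfl ((hJ _).trans ?_)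
    exact (congrArg F (by ring)).le

include hJ in
theorem pow_smul_le (p : ℤ) (k : ℕ) : J ^ k • F p ≤ F (p + k) := by
  induction k with
  | zero => simp
  | succ k ih =>
    rw [pow_succ', mul_smul]
    refine (smul_mono_right J ih).trans ((hJ _).trans ?_)
    exact (congrArg F (by push_cast; ring)).le

include hF hJ hsep in
/-- The key inclusion. -/
theorem le_pow_smul_span [IsAdicComplete J S] (p : ℤ) {r : ℕ} (x : Fin r → M)
    (hx : span S (Set.range x) ≤ F p) (hN : F p ≤ span S (Set.range x) ⊔ F (p + 1))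
    (h : ∀ q : ℤ, p ≤ q → F (q + 1) = J • F q ⊔ F (q + 2)) (j : ℕ) :
    F (p + j) ≤ J ^ j • span S (Set.range x) := by
  intro m hm
  set N := span S (Set.range x) with hNdef
  have hstep : ∀ (k : ℕ) (z : M), z ∈ F (p + j + k) → ∃ n ∈ J ^ (j + k) • N,
      z - n ∈ F (p + j + (k + 1 : ℕ)) := by
    intro k z hz
    have h1 := le_pow_smul J F hJ p N hN h (j + k)
    have h2 : p + (j + k : ℕ) = p + j + k := by push_cast; ring
    rw [h2] at h1
    obtain ⟨n, hn, w, hw, hnw⟩ := mem_sup.1 (h1 hz)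
    refine ⟨n, hn, ?_⟩
    rw [← hnw, add_sub_cancel_left]
    have h3 : p + j + (k + 1 : ℕ) = p + j + k + 1 := by push_cast; ring
    rw [h3]; exact hw
  choose! n hn hzn using hstep
  -- the successive remainders
  let z : ℕ → M := fun k => Nat.rec m (fun k z => z - n k z) k
  have hz0 : z 0 = m := rfl
  have hzs : ∀ k, z (k + 1) = z k - n k (z k) := fun k => rfl
  have hz : ∀ k : ℕ, z k ∈ F (p + j + k) := by
    intro k
    induction k with
    | zero => simpa [hz0] using hm
    | succ k ih => rw [hzs]; exact hzn k _ ih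
  obtain ⟨y, hy, hyk⟩ := exists_limit J x j (fun k => n k (z k)) (fun k => hn k _ (hz k))
  have hsum : ∀ k, m - ∑ l ∈ Finset.range k, n l (z l) = z k := by
    intro k
    induction k with
    | zero => simp [hz0]
    | succ k ih => rw [Finset.sum_range_succ, hzs, ← ih]; abel
  have hmy : m - y ∈ (⨅ q : ℤ, F q) := by
    rw [mem_iInf]
    intro q
    obtain ⟨k, hk⟩ : ∃ k : ℕ, q ≤ p + k := ⟨(q - p).toNat, by omega⟩
    have h1 : m - y = z k - (y - ∑ l ∈ Finset.range k, n l (z l)) := by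
      rw [← hsum]; abel
    rw [h1]
    refine hF hk (sub_mem (hF (by omega : p + (k : ℤ) ≤ p + j + k) (hz k)) ?_)
    exact pow_smul_le J F hJ p k (smul_mono_right _ hx (hyk k))
  rw [hsep, mem_bot, sub_eq_zero] at hmy
  rw [hmy]
  exact hy

include hF hJ hsep in
theorem main [IsNoetherianRing S] [IsAdicComplete J S] (hcod : ∃ p₀ : ℤ, F p₀ = ⊤) :
    (Module.Finite S M ∧ ∃ p₁ : ℤ, ∀ p : ℤ, p₁ ≤ p → J • F p = F (p + 1)) ↔
      ((∀ p : ℤ, (Submodule.map (F (p + 1)).mkQ (F p)).FG) ∧
        ∃ p₁ : ℤ, ∀ p : ℤ, p₁ ≤ p → F (p + 1) = J • F p ⊔ F (p + 2)) := by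
  constructor
  · rintro ⟨hfin, p₁, h⟩
    refine ⟨fun p => ((IsNoetherian.noetherian (F p)).map _), p₁, fun p hp => ?_⟩
    rw [h p hp]
    exact (sup_eq_left.2 (hF (by omega))).symm
  · rintro ⟨hgr, p₁, h⟩
    have key : ∀ p : ℤ, p₁ ≤ p → (F p).FG ∧ J • F p = F (p + 1) := by
      intro p hp
      obtain ⟨r, x, hx, hN⟩ := exists_gen F p (hgr p)
      have hh : ∀ q : ℤ, p ≤ q → F (q + 1) = J • F q ⊔ F (q + 2) := fun q hq => h q (hp.trans hq)
      have h0 := le_pow_smul_span J F hF hJ hsep p x hx hN hh 0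
      have h1 := le_pow_smul_span J F hF hJ hsep p x hx hN hh 1
      rw [pow_zero, Ideal.one_eq_top, top_smul, Nat.cast_zero, add_zero] at h0
      rw [pow_one, Nat.cast_one] at h1
      refine ⟨?_, le_antisymm (hJ p) (h1.trans (smul_mono_right J hx))⟩
      rw [le_antisymm h0 hx]
      exact fg_span (Set.finite_range x)
    refine ⟨?_, p₁, fun p hp => (key p hp).2⟩
    -- descending induction
    have hdesc : ∀ k : ℕ, (F (p₁ - k)).FG := by
      intro k
      induction k with
      | zero => simpa using (key p₁ le_rfl).1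
      | succ k ih =>
        have e : p₁ - (k + 1 : ℕ) + 1 = p₁ - k := by push_cast; ring
        refine fg_of_fg_map_of_fg_inf_ker (F (p₁ - (k + 1 : ℕ) + 1)).mkQ (hgr _) ?_
        rw [ker_mkQ, inf_eq_right.2 (hF (by omega)), e]
        exact ih
    obtain ⟨p₀, hp₀⟩ := hcod
    obtain ⟨k, hk⟩ : ∃ k : ℕ, p₁ - k ≤ p₀ := ⟨(p₁ - p₀).toNat, by omega⟩
    have : F (p₁ - k) = ⊤ := top_le_iff.1 (hp₀ ▸ hF hk)
    exact ⟨this ▸ hdesc k⟩

end K357.FilComplete
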