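import Groth.Agent.EtpbcB.Horseshoe
import Mathlib.CategoryTheory.Functor.OfSequence
import Mathlib.CategoryTheory.Subobject.Lattice
import Groth.Prelude.Def_SpSeq

set_option autoImplicit false
set_option backward.isDefEq.respectTransparency false
universe v u

/-!
Injective resolutions of finitely filtered objects.
-/

open CategoryTheory CategoryTheory.Limits ZeroObject

namespace K357.FilRes

open Groth.Agent.EtpbcB.Horseshoe

variable {C : Type u} [Category.{v} C] [Abelian C]

/-- Change of the resolved object along an isomorphism. -/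
noncomputable def ofIso {A' A : C} (e : A' ≅ A) (J : InjectiveResolution A') :
    InjectiveResolution A where
  cocomplex := J.cocomplex
  injective := J.injective
  ι := (CochainComplex.single₀ C).map e.inv ≫ J.ι
  quasiIso := inferInstance

/-- The extension step. -/
theorem exists_step [EnoughInjectives C] {A' A : C} (f : A' ⟶ A) [Mono f]
    (J' : InjectiveResolution A') :
    ∃ (J : InjectiveResolution A) (φ : J'.cocomplex ⟶ J.cocomplex), Mono φ ∧
      J'.ι ≫ φ = (CochainComplex.single₀ C).map f ≫ J.ι ∧ (IsIso f → IsIso φ) := by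
  by_cases hf : IsIso f
  · refine ⟨ofIso (asIso f) J', 𝟙 _, inferInstance, ?_, fun _ => inferInstance⟩
    change J'.ι ≫ 𝟙 _ = (CochainComplex.single₀ C).map f ≫ (CochainComplex.single₀ C).map (inv f) ≫ J'.ι
    rw [← Functor.map_comp_assoc, IsIso.hom_inv_id, CategoryTheory.Functor.map_id,
      Category.comp_id, Category.id_comp]
  · let S : ShortComplex C := ShortComplex.mk f (cokernel.π f) (cokernel.condition f)
    have hS : S.ShortExact :=
      { exact := ShortComplex.exact_cokernel f
        mono_f := inferInstanceAs (Mono f)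
        epi_g := inferInstanceAs (Epi (cokernel.π f)) }
    let I₃ : InjectiveResolution S.X₃ := injectiveResolution _
    refine ⟨midRes hS J' I₃, tinl _ _ _ (Tw.seq_spec I₃ J' (t₀ hS J' I₃)), ?_, ?_,
      fun h => absurd h hf⟩
    · exact (sc_shortExact hS J' I₃).mono_f
    · apply (CochainComplex.fromSingle₀Equiv _ _).injective
      apply Subtype.ext
      have h1 : (midRes hS J' I₃).ι.f 0 = aug hS J' I₃ := resOf_ι_f_zero _ _ _ _ _ _ _
      have h2 : ((CochainComplex.single₀ C).map f ≫ (midRes hS J' I₃).ι).f 0 =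
          f ≫ aug hS J' I₃ := by
        rw [HomologicalComplex.comp_f, h1]; simp
      have h3 : f ≫ aug hS J' I₃ = J'.ι.f 0 ≫ biprod.inl := by
        have h4 : f ≫ α hS J' = J'.ι.f 0 := f_α hS J'
        change f ≫ biprod.lift (α hS J') (cokernel.π f ≫ I₃.ι.f 0) = _
        apply biprod.hom_ext
        · simpa using h4
        · simp
      have h5 : (J'.ι ≫ tinl J'.cocomplex I₃.cocomplex
          (fun n => (Tw.seq I₃ J' (t₀ hS J' I₃) n).1) (Tw.seq_spec I₃ J' (t₀ hS J' I₃))).f 0 =
          J'.ι.f 0 ≫ biprod.inl := rfl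
      have h6 := h5.trans (h3.symm.trans h2.symm)
      simpa using h6

/-- A sequence of resolutions. -/
theorem exists_seq [EnoughInjectives C] (S : ℕ → C) (f : ∀ k, S k ⟶ S (k + 1))
    (hf : ∀ k, Mono (f k)) (J₀ : InjectiveResolution (S 0)) :
    ∃ (J : ∀ k, InjectiveResolution (S k)) (φ : ∀ k, (J k).cocomplex ⟶ (J (k + 1)).cocomplex),
      J 0 = J₀ ∧ ∀ k, Mono (φ k) ∧
        (J k).ι ≫ φ k = (CochainComplex.single₀ C).map (f k) ≫ (J (k + 1)).ι ∧
        (IsIso (f k) → IsIso (φ k)) := by
  choose step stepφ h using fun k (J' : InjectiveResolution (S k)) => exists_step (f k) J'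
  let J : ∀ k, InjectiveResolution (S k) := fun k => Nat.rec J₀ (fun k Jk => step k Jk) k
  exact ⟨J, fun k => stepφ k (J k), rfl, fun k => h k (J k)⟩

section Seq

variable {D : Type*} [Category* D] {X : ℕ → D} (φ : ∀ k, X k ⟶ X (k + 1))

theorem mono_map (h : ∀ k, Mono (φ k)) {m n : ℕ} (hmn : m ≤ n) :
    Mono ((Functor.ofSequence φ).map (homOfLE hmn)) := by
  induction n, hmn using Nat.le_induction with
  | base => 
    change Mono ((Functor.ofSequence φ).map (𝟙 m))
    infer_instance
  | succ n hmn ih =>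
    have : (Functor.ofSequence φ).map (homOfLE (hmn.trans (Nat.le_succ n))) =
        (Functor.ofSequence φ).map (homOfLE hmn) ≫ φ n := by
      rw [← Functor.ofSequence_map_homOfLE_succ φ n, ← Functor.map_comp]
      rfl
    rw [this]
    have := h n
    exact mono_comp _ _

theorem isIso_map {m n : ℕ} (hmn : m ≤ n) (h : ∀ k, m ≤ k → k < n → IsIso (φ k)) :
    IsIso ((Functor.ofSequence φ).map (homOfLE hmn)) := by
  induction n, hmn using Nat.le_induction with
  | base => 
    change IsIso ((Functor.ofSequence φ).map (𝟙 m))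
    infer_instance
  | succ n hmn ih =>
    have e : (Functor.ofSequence φ).map (homOfLE (hmn.trans (Nat.le_succ n))) =
        (Functor.ofSequence φ).map (homOfLE hmn) ≫ φ n := by
      rw [← Functor.ofSequence_map_homOfLE_succ φ n, ← Functor.map_comp]
      rfl
    rw [e]
    have := h n hmn (Nat.lt_succ_self n)
    have := ih (fun k h1 h2 => h k h1 (h2.trans (Nat.lt_succ_self n)))
    infer_instance

end Seq

/-- The filtered resolution. -/
theorem main [EnoughInjectives C]
    (K : SpSeq.FilObj C) (hK : K.IsFinite) :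
    ∃ (X : InjectiveResolution K.obj) (G : ℤ → Subobject X.cocomplex), Antitone G ∧
      (∀ i : ℤ, K.fil i = ⊤ → G i = ⊤) ∧ (∀ i : ℤ, K.fil i = ⊥ → G i = ⊥) ∧
      ∀ i : ℤ, (∀ j : ℕ, Injective ((G i : CochainComplex C ℕ).X j)) ∧
        ∃ ι : (CochainComplex.single₀ C).obj (K.step i) ⟶ (G i : CochainComplex C ℕ),
          ι ≫ (G i).arrow = (CochainComplex.single₀ C).map (K.fil i).arrow ≫ X.ι ∧ QuasiIso ι := by
  obtain ⟨⟨a₀, ha₀⟩, b, hb⟩ := hK
  -- choose `n` with `b - n ≤ a₀`
  obtain ⟨n, hn⟩ : ∃ n : ℕ, b - n ≤ a₀ := ⟨(b - a₀).toNat, by omega⟩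
  have ha : K.fil (b - n) = ⊤ := le_antisymm le_top (ha₀ ▸ K.anti hn)
  -- the sequence of subobjects
  let S : ℕ → Subobject K.obj := fun k => K.fil (b - k)
  have hS : Monotone S := fun k l h => K.anti (by omega)
  let f : ∀ k, (S k : C) ⟶ (S (k + 1) : C) := fun k => (S k).ofLE (S (k + 1)) (hS (Nat.le_succ k))
  have hf : ∀ k, Mono (f k) := fun k => inferInstance
  have hz : IsZero (S 0 : C) := by
    have h0 : S 0 = ⊥ := by simp [S, hb]
    rw [h0]
    exact (isZero_zero C).of_iso Subobject.botCoeIsoZero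
  have : Injective (S 0 : C) := hz.injective
  obtain ⟨J, φ, hJ₀, hJ⟩ := exists_seq (fun k => (S k : C)) f hf (InjectiveResolution.self (S 0 : C))
  let 𝒥 := Functor.ofSequence φ
  let 𝒮 := Functor.ofSequence f
  have h𝒥succ : ∀ k l (h : k ≤ l), 𝒥.map (homOfLE (h.trans (Nat.le_succ l))) =
      𝒥.map (homOfLE h) ≫ φ l := fun k l h => by
    rw [← Functor.ofSequence_map_homOfLE_succ φ l, ← Functor.map_comp]; rfl
  have h𝒮succ : ∀ k l (h : k ≤ l), 𝒮.map (homOfLE (h.trans (Nat.le_succ l))) =
      𝒮.map (homOfLE h) ≫ f l := fun k l h => by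
    rw [← Functor.ofSequence_map_homOfLE_succ f l, ← Functor.map_comp]; rfl
  have h𝒮arrow : ∀ k l (h : k ≤ l), 𝒮.map (homOfLE h) ≫ (S l).arrow = (S k).arrow := by
    intro k l h
    induction l, h using Nat.le_induction with
    | base =>
      change 𝒮.map (𝟙 k) ≫ (S k).arrow = _
      rw [CategoryTheory.Functor.map_id]
      exact Category.id_comp _
    | succ l h ih =>
      rw [h𝒮succ k l h, Category.assoc]
      change 𝒮.map (homOfLE h) ≫ Subobject.ofLE _ _ _ ≫ (S (l + 1)).arrow = _
      rw [Subobject.ofLE_arrow, ih]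
  have hnat : ∀ k l (h : k ≤ l), (J k).ι ≫ 𝒥.map (homOfLE h) =
      (CochainComplex.single₀ C).map (𝒮.map (homOfLE h)) ≫ (J l).ι := by
    intro k l h
    induction l, h using Nat.le_induction with
    | base =>
      change (J k).ι ≫ 𝒥.map (𝟙 k) = (CochainComplex.single₀ C).map (𝒮.map (𝟙 k)) ≫ (J k).ι
      rw [CategoryTheory.Functor.map_id, CategoryTheory.Functor.map_id,
        CategoryTheory.Functor.map_id, Category.id_comp]
      exact Category.comp_id _
    | succ l h ih =>
      rw [h𝒮succ k l h, h𝒥succ k l h, Functor.map_comp, Category.assoc, ← (hJ l).2.1,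
        ← Category.assoc, ← Category.assoc, ih]
  have hmono : ∀ k l (h : k ≤ l), Mono (𝒥.map (homOfLE h)) := fun k l h =>
    mono_map φ (fun k => (hJ k).1) h
  -- isomorphisms
  have hfiso : ∀ k, S k = S (k + 1) → IsIso (f k) := fun k h => by
    have : f k = (Subobject.isoOfEq _ _ h).hom := rfl
    rw [this]; infer_instance
  have hiso : ∀ k l (h : k ≤ l), S k = S l → IsIso (𝒥.map (homOfLE h)) := fun k l h hkl =>
    isIso_map φ h (fun m h1 h2 => (hJ m).2.2 (hfiso m (le_antisymm (hS (Nat.le_succ m))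
      ((hS (Nat.succ_le_of_lt h2)).trans (hkl.symm.le.trans (hS h1))))))
  -- the resolution
  have : IsIso (S n).arrow := by
    have : S n = ⊤ := ha
    rw [this]; infer_instance
  let X : InjectiveResolution K.obj := ofIso (asIso (S n).arrow) (J n)
  -- the index
  let k : ℤ → ℕ := fun i => min n (b - i).toNat
  have hk : ∀ i, k i ≤ n := fun i => min_le_left _ _
  have hkanti : ∀ i j, i ≤ j → k j ≤ k i := fun i j h =>
    min_le_min le_rfl (by omega)
  have hSk : ∀ i, S (k i) = K.fil i := by
    intro i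
    change K.fil (b - (k i : ℕ)) = K.fil i
    rcases le_total b i with h1 | h1
    · have h2 : k i = 0 := by simp only [k]; omega
      rw [h2, Nat.cast_zero, sub_zero, hb]
      exact (le_antisymm (hb ▸ K.anti h1) bot_le).symm
    · rcases le_total i (b - n) with h3 | h3
      · have h4 : k i = n := by simp only [k]; omega
        rw [h4, ha]
        exact (le_antisymm le_top (ha ▸ K.anti h3)).symm
      · congr 1
        have h5 : k i = (b - i).toNat := by simp only [k]; omega
        omega
  let g : ∀ i : ℤ, (J (k i)).cocomplex ⟶ X.cocomplex := fun i => 𝒥.map (homOfLE (hk i))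
  have hg : ∀ i, Mono (g i) := fun i => hmono _ _ _
  let G : ℤ → Subobject X.cocomplex := fun i => Subobject.mk (g i)
  refine ⟨X, G, ?_, ?_, ?_, fun i => ⟨?_, ?_⟩⟩
  · intro i j hij
    refine Subobject.mk_le_mk_of_comm (𝒥.map (homOfLE (hkanti i j hij))) ?_
    change 𝒥.map _ ≫ 𝒥.map _ = 𝒥.map _
    rw [← Functor.map_comp]; rfl
  · intro i hi
    have h1 : S (k i) = S n := (hSk i).trans (hi.trans ha.symm)
    have : IsIso (g i) := hiso _ _ _ h1
    exact Subobject.mk_eq_top_of_isIso (g i)
  · intro i hi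
    have h1 : S 0 = S (k i) := by
      rw [hSk i, hi]; simp [S, hb]
    have h2 : IsIso (𝒥.map (homOfLE (Nat.zero_le (k i)))) := hiso _ _ _ h1
    have h3 : IsZero (𝒥.obj 0) := by
      change IsZero (J 0).cocomplex
      rw [hJ₀]
      exact (CochainComplex.single₀ C).map_isZero hz
    have h4 : IsZero (J (k i)).cocomplex := h3.of_iso (asIso (𝒥.map (homOfLE (Nat.zero_le (k i))))).symm
    exact (Subobject.mk_eq_bot_iff_zero).2 (h4.eq_of_src _ _)
  · intro j
    let e : (G i : CochainComplex C ℕ) ≅ (J (k i)).cocomplex := Subobject.underlyingIso (g i)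
    exact Injective.of_iso ((HomologicalComplex.eval C (ComplexShape.up ℕ) j).mapIso e).symm
      ((J (k i)).injective j)
  · let e : (G i : CochainComplex C ℕ) ≅ (J (k i)).cocomplex := Subobject.underlyingIso (g i)
    let e' : K.step i ≅ (S (k i) : C) := Subobject.isoOfEq _ _ (hSk i).symm
    refine ⟨(CochainComplex.single₀ C).map e'.hom ≫ (J (k i)).ι ≫ e.inv, ?_, inferInstance⟩
    have h1 : e.inv ≫ (G i).arrow = g i := Subobject.underlyingIso_arrow (g i)
    have h2 : (J (k i)).ι ≫ g i =
      (CochainComplex.single₀ C).map (𝒮.map (homOfLE (hk i))) ≫ (J n).ι := hnat _ _ (hk i)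
    have h3 : (K.fil i).arrow = e'.hom ≫ 𝒮.map (homOfLE (hk i)) ≫ (S n).arrow := by
      rw [h𝒮arrow]
      exact (Subobject.ofLE_arrow (hSk i).symm.le).symm
    rw [Category.assoc, Category.assoc, h1, h2, h3]
    change _ = (CochainComplex.single₀ C).map (e'.hom ≫ 𝒮.map (homOfLE (hk i)) ≫ (S n).arrow) ≫
      (CochainComplex.single₀ C).map (inv (S n).arrow) ≫ (J n).ι
    rw [← Functor.map_comp_assoc, ← Functor.map_comp_assoc]
    simp only [Category.assoc, IsIso.hom_inv_id, Category.comp_id]

end K357.FilRes
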