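import Groth.Agent.Ega3A.MLBasic
import Mathlib.CategoryTheory.Preadditive.Injective.Basic
import Mathlib.CategoryTheory.Abelian.FunctorCategory
import Mathlib.Algebra.Category.Grp.EpiMono

set_option autoImplicit false
universe u

/-!
An injective tower of abelian groups has surjective transition maps, hence is Mittag-Leffler.
-/

namespace K357.InjTower

open CategoryTheory CategoryTheory.Limits Opposite
open Groth.Agent.Ega3A.MLBasic

/-- The tower of products of the initial segments of a tower. -/
def T (I : ℕᵒᵖ ⥤ AddCommGrpCat.{u}) : ℕᵒᵖ ⥤ AddCommGrpCat.{u} where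
  obj n := AddCommGrpCat.of (∀ k : {k : ℕ // k ≤ n.unop}, I.obj (op k.1))
  map f := AddCommGrpCat.ofHom
    { toFun := fun x k => x ⟨k.1, k.2.trans (leOfHom f.unop)⟩
      map_zero' := rfl
      map_add' := fun _ _ => rfl }
  map_id _ := rfl
  map_comp _ _ := rfl

/-- The diagonal embedding. -/
def ι (I : ℕᵒᵖ ⥤ AddCommGrpCat.{u}) : I ⟶ T I where
  app n := AddCommGrpCat.ofHom
    { toFun := fun x k => (I.map (homOfLE k.2).op).hom x
      map_zero' := by funext k; exact map_zero _
      map_add' := fun x y => by funext k; exact map_add _ x y }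
  naturality m n f := by
    ext x
    funext k
    change (I.map (homOfLE k.2).op).hom ((I.map f).hom x) =
      (I.map (homOfLE (k.2.trans (leOfHom f.unop))).op).hom x
    exact map_map (F := I) k.2 (leOfHom f.unop) x

instance (I : ℕᵒᵖ ⥤ AddCommGrpCat.{u}) : Mono (ι I) := by
  have : ∀ n, Mono ((ι I).app n) := fun n => by
    rw [AddCommGrpCat.mono_iff_injective]
    intro x y hxy
    have := congrFun hxy ⟨n.unop, le_rfl⟩
    change (I.map (homOfLE (le_refl n.unop)).op).hom x =
      (I.map (homOfLE (le_refl n.unop)).op).hom y at this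
    rw [map_refl, map_refl] at this
    exact this
  exact NatTrans.mono_of_mono_app _

/-- The tower of products has surjective transition maps. -/
theorem T_surjective (I : ℕᵒᵖ ⥤ AddCommGrpCat.{u}) {m n : ℕᵒᵖ} (f : m ⟶ n) :
    Function.Surjective ((T I).map f).hom := by
  classical
  intro x
  refine ⟨fun k => if h : k.1 ≤ n.unop then x ⟨k.1, h⟩ else 0, ?_⟩
  funext k
  exact dif_pos k.2

/-- An injective tower has surjective transition maps. -/
theorem surjective_of_injective (I : ℕᵒᵖ ⥤ AddCommGrpCat.{u}) [Injective I] {m n : ℕᵒᵖ}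
    (f : m ⟶ n) : Function.Surjective (I.map f).hom := by
  let r : T I ⟶ I := Injective.factorThru (𝟙 I) (ι I)
  have hr : ι I ≫ r = 𝟙 I := Injective.comp_factorThru (𝟙 I) (ι I)
  intro x
  obtain ⟨y, hy⟩ := T_surjective I f (((ι I).app n).hom x)
  refine ⟨(r.app m).hom y, ?_⟩
  have h1 : (I.map f).hom ((r.app m).hom y) = (r.app n).hom (((T I).map f).hom y) :=
    congrArg (fun g => g.hom y) (r.naturality f).symm
  rw [h1, hy]
  exact congrArg (fun g => (g.app n).hom x) hr

/-- A tower with surjective transition maps is Mittag-Leffler. -/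
theorem isMittagLeffler_of_surjective_maps (I : ℕᵒᵖ ⥤ AddCommGrpCat.{u})
    (h : ∀ {m n : ℕᵒᵖ} (f : m ⟶ n), Function.Surjective (I.map f).hom) :
    (I ⋙ forget AddCommGrpCat).IsMittagLeffler := by
  rw [isMittagLeffler_iff]
  intro j
  refine ⟨j, le_rfl, fun k hk x => ?_⟩
  obtain ⟨y, hy⟩ := h (homOfLE hk).op x
  exact ⟨y, by rw [map_refl]; exact hy⟩

/-- An injective tower is Mittag-Leffler. -/
theorem isMittagLeffler_of_injective (I : ℕᵒᵖ ⥤ AddCommGrpCat.{u}) [Injective I] :
    (I ⋙ forget AddCommGrpCat).IsMittagLeffler :=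
  isMittagLeffler_of_surjective_maps I (fun f => surjective_of_injective I f)

end K357.InjTower
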