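import Groth.Agent.Ega3A.MLComplex
import Groth.Agent.Ega3A.MLNat
import Groth.Prelude.Def_Formal2

set_option autoImplicit false
universe u

/-!
The Milnor exact sequence for the cohomology of the limit of a tower of complexes of abelian groups
with surjective transition maps.
-/

open CategoryTheory CategoryTheory.Limits Opposite

namespace K357.MilnorCx

open Groth.Agent.Ega3A.MLBasic Groth.Agent.Ega3A.MLComplex

theorem nonempty_equiv {W A L P : Type u} [AddCommGroup W] [AddCommGroup A] [AddCommGroup L]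
    [AddCommGroup P] (φ : W →+ A) (ψ : W →+ L) (hψ : Function.Surjective ψ) (γ : A →+ P)
    (h1 : ∀ a, γ a = 0 ↔ ∃ w, φ w = a) (h2 : ∀ w, φ w = 0 ↔ ψ w = 0) :
    Nonempty (γ.ker ≃+ L) := by
  have e1 : γ.ker = φ.range := by
    ext x
    exact h1 x
  have e2 : φ.ker = ψ.ker := by
    ext x
    exact h2 x
  exact ⟨(AddEquiv.addSubgroupCongr e1).trans ((QuotientAddGroup.quotientKerEquivRange φ).symm.trans
    ((QuotientAddGroup.quotientAddEquivOfEq e2).trans
      (QuotientAddGroup.quotientKerEquivOfSurjective ψ hψ)))⟩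

variable (K : ℕᵒᵖ ⥤ HomologicalComplex AddCommGrpCat.{u} (ComplexShape.up ℤ))

/-- Transition morphism. -/
abbrev tt (n : ℕ) : K.obj (op (n + 1)) ⟶ K.obj (op n) := K.map (homOfLE (Nat.le_succ n)).op

/-- A tower with surjective consecutive transition maps is Mittag-Leffler. -/
theorem isMittagLeffler_of_succ (F : ℕᵒᵖ ⥤ AddCommGrpCat.{u})
    (h : ∀ n, Function.Surjective (F.map (homOfLE (Nat.le_succ n)).op).hom) :
    (F ⋙ forget AddCommGrpCat).IsMittagLeffler := by
  rw [isMittagLeffler_iff]
  intro j
  have hs : ∀ k (hk : j ≤ k), Function.Surjective (F.map (homOfLE hk).op).hom := by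
    intro k hk
    induction k, hk using Nat.le_induction with
    | base => exact fun x => ⟨x, map_refl x⟩
    | succ k hk ih =>
      intro x
      obtain ⟨y, rfl⟩ := ih x
      obtain ⟨z, rfl⟩ := h k y
      exact ⟨z, (map_map _ _ _).symm⟩
  refine ⟨j, le_rfl, fun k hk x => ?_⟩
  obtain ⟨y, hy⟩ := hs k hk x
  exact ⟨y, by rw [map_refl]; exact hy⟩

/-- Compatible families indexed by consecutive transition maps are sections. -/
theorem exists_section_of_succ (F : ℕᵒᵖ ⥤ AddCommGrpCat.{u}) (x : ∀ n : ℕ, F.obj (op n))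
    (h : ∀ n, (F.map (homOfLE (Nat.le_succ n)).op).hom (x (n + 1)) = x n) :
    ∃ s : (F ⋙ forget AddCommGrpCat).sections, ∀ n : ℕ, s.1 (op n) = x n := by
  have key : ∀ j k (hk : j ≤ k), (F.map (homOfLE hk).op).hom (x k) = x j := by
    intro j k hk
    induction k, hk using Nat.le_induction with
    | base => exact map_refl _
    | succ k hk ih => rw [← map_map hk (Nat.le_succ k), h, ih]
  exact ⟨⟨fun n => x n.unop, fun {i j} f => key _ _ (leOfHom f.unop)⟩, fun n => rfl⟩

section

variable (p q : ℤ)

/-- The auxiliary group of triples. -/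
noncomputable def W : AddSubgroup ((∀ n : ℕ, (K.obj (op n)).X q) × ((limit K).cycles p) ×
    (∀ n : ℕ, (K.obj (op n)).cycles q)) where
  carrier := { w | (∀ n : ℕ, ((limit.π K (op n)).f p).hom (((limit K).iCycles p).hom w.2.1) =
      ((K.obj (op n)).d q p).hom (w.1 n)) ∧
    (∀ n : ℕ, ((K.obj (op n)).iCycles q).hom (w.2.2 n) = w.1 n - ((tt K n).f q).hom (w.1 (n + 1))) }
  zero_mem' := by
    constructor
    · intro n; simp
    · intro n; simp
  add_mem' := by
    rintro a b ⟨ha1, ha2⟩ ⟨hb1, hb2⟩
    constructor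
    · intro n
      simp [ha1 n, hb1 n]
    · intro n
      simp only [Prod.snd_add, Pi.add_apply, map_add, ha2 n, hb2 n, Prod.fst_add]
      abel
  neg_mem' := by
    rintro a ⟨ha1, ha2⟩
    constructor
    · intro n
      simp [ha1 n]
    · intro n
      simp only [Prod.snd_neg, Pi.neg_apply, map_neg, ha2 n, Prod.fst_neg]
      abel

/-- The map to the cohomology of the limit. -/
noncomputable def φ : W K p q →+ (limit K).homology p :=
  ((limit K).homologyπ p).hom.comp ((AddMonoidHom.fst _ _).comp ((AddMonoidHom.snd _ _).comp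
    (W K p q).subtype))

/-- The tower of cohomologies. -/
abbrev L1 := Formal2.limOne (fun n => (K.obj (op n)).homology q)
          (fun n => (HomologicalComplex.homologyMap (K.map (homOfLE (Nat.le_succ n)).op) q).hom)

/-- The map to `lim¹`. -/
noncomputable def ψ : W K p q →+ L1 K q :=
  (QuotientAddGroup.mk' _).comp ((AddMonoidHom.pi (fun n : ℕ =>
    ((K.obj (op n)).homologyπ q).hom.comp (Pi.evalAddMonoidHom _ n))).comp
    ((AddMonoidHom.snd _ _).comp ((AddMonoidHom.snd _ _).comp
    (W K p q).subtype)))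

variable (hK : ∀ (n : ℕ) (r : ℤ), Function.Surjective ((tt K n).f r).hom)

include hK

/-- `1 - shift` is surjective in each degree. -/
theorem exists_shift (r : ℤ) (x : ∀ n : ℕ, (K.obj (op n)).X r) :
    ∃ y : ∀ n : ℕ, (K.obj (op n)).X r, ∀ n, y n - ((tt K n).f r).hom (y (n + 1)) = x n :=
  Groth.Agent.Ega3A.MLNat.exists_sub_shift (A := K ⋙ HomologicalComplex.eval _ _ r)
    (isMittagLeffler_of_succ _ (fun n => hK n r)) x

theorem ML (r : ℤ) : ((K ⋙ HomologicalComplex.eval _ _ r) ⋙ forget AddCommGrpCat).IsMittagLeffler :=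
  isMittagLeffler_of_succ _ (fun n => hK n r)

omit hK in
/-- Evaluation of the limit cone is a limit cone. -/
noncomputable def hlim (r : ℤ) : IsLimit ((HomologicalComplex.eval _ _ r).mapCone (limit.cone K)) :=
  isLimitOfPreserves _ (limit.isLimit K)

omit hK in
theorem limX_ext (r : ℤ) (x y : (limit K).X r)
    (h : ∀ n : ℕ, ((limit.π K (op n)).f r).hom x = ((limit.π K (op n)).f r).hom y) : x = y :=
  ext_of_isLimit (hlim K r) x y (fun j => h j.unop)

omit hK in
theorem exists_limX (r : ℤ) (x : ∀ n : ℕ, (K.obj (op n)).X r)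
    (h : ∀ n, ((tt K n).f r).hom (x (n + 1)) = x n) :
    ∃ y : (limit K).X r, ∀ n : ℕ, ((limit.π K (op n)).f r).hom y = x n := by
  obtain ⟨s, hs⟩ := exists_section_of_succ (K ⋙ HomologicalComplex.eval _ _ r) x h
  obtain ⟨y, hy⟩ := exists_of_section_of_isLimit (hlim K r) s
  exact ⟨y, fun n => (hy (op n)).trans (hs n)⟩

omit hK in
theorem π_tt (n : ℕ) (r : ℤ) (x : (limit K).X r) :
    ((tt K n).f r).hom (((limit.π K (op (n + 1))).f r).hom x) = ((limit.π K (op n)).f r).hom x :=
  congrArg (fun g => (g.f r).hom x) (limit.w K (homOfLE (Nat.le_succ n)).op)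

omit hK in
theorem comm_apply {A B : HomologicalComplex AddCommGrpCat.{u} (ComplexShape.up ℤ)} (g : A ⟶ B)
    (r s : ℤ) (x : A.X r) : (g.f s).hom ((A.d r s).hom x) = (B.d r s).hom ((g.f r).hom x) :=
  congrArg (fun g => g.hom x) (g.comm r s).symm

omit hK in
theorem iCycles_cyclesMap_apply {A B : HomologicalComplex AddCommGrpCat.{u} (ComplexShape.up ℤ)}
    (g : A ⟶ B) (r : ℤ) (x : (A.cycles r : AddCommGrpCat)) :
    (B.iCycles r).hom ((HomologicalComplex.cyclesMap g r).hom x) =
      (g.f r).hom ((A.iCycles r).hom x) :=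
  congrArg (fun g => g.hom x) (HomologicalComplex.cyclesMap_i g r)

omit hK in
theorem homologyMap_π_apply {A B : HomologicalComplex AddCommGrpCat.{u} (ComplexShape.up ℤ)}
    (g : A ⟶ B) (r : ℤ) (x : (A.cycles r : AddCommGrpCat)) :
    (HomologicalComplex.homologyMap g r).hom ((A.homologyπ r).hom x) =
      (B.homologyπ r).hom ((HomologicalComplex.cyclesMap g r).hom x) :=
  congrArg (fun g => g.hom x) (HomologicalComplex.homologyπ_naturality g r)

omit hK in
theorem iCycles_toCycles_apply (A : HomologicalComplex AddCommGrpCat.{u} (ComplexShape.up ℤ))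
    (r s : ℤ) (x : A.X r) :
    (A.iCycles s).hom ((A.toCycles r s).hom x) = (A.d r s).hom x :=
  congrArg (fun g => g.hom x) (A.toCycles_i r s)

omit hK in
theorem π_toCycles_apply (A : HomologicalComplex AddCommGrpCat.{u} (ComplexShape.up ℤ))
    (r s : ℤ) (x : A.X r) :
    (A.homologyπ s).hom ((A.toCycles r s).hom x) = 0 :=
  congrArg (fun g => g.hom x) (A.toCycles_comp_homologyπ r s)

omit hK in
theorem d_iCycles_apply (A : HomologicalComplex AddCommGrpCat.{u} (ComplexShape.up ℤ))
    (r s : ℤ) (x : (A.cycles r : AddCommGrpCat)) :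
    (A.d r s).hom ((A.iCycles r).hom x) = 0 :=
  congrArg (fun g => g.hom x) (A.iCycles_d r s)

omit hK in
theorem d_d_apply (A : HomologicalComplex AddCommGrpCat.{u} (ComplexShape.up ℤ))
    (r s t : ℤ) (x : A.X r) :
    (A.d s t).hom ((A.d r s).hom x) = 0 :=
  congrArg (fun g => g.hom x) (A.d_comp_d r s t)

variable (hqp : q + 1 = p)

include hqp

omit hK in
theorem next_q : (ComplexShape.up ℤ).next q = p := by
  apply (ComplexShape.up ℤ).next_eq'; exact hqp

omit hK in
theorem prev_p : (ComplexShape.up ℤ).prev p = q := by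
  apply (ComplexShape.up ℤ).prev_eq'; exact hqp

omit hK hqp in
theorem prev_q : (ComplexShape.up ℤ).prev q = q - 1 := by
  apply (ComplexShape.up ℤ).prev_eq'; simp

omit hqp in
theorem ψ_surjective : Function.Surjective (ψ K p q) := by
  intro l
  obtain ⟨h, rfl⟩ := QuotientAddGroup.mk_surjective l
  choose c hc using fun n => homologyπ_surjective (K.obj (op n)) q (h n)
  obtain ⟨y, hy⟩ := exists_shift K hK q (fun n => ((K.obj (op n)).iCycles q).hom (c n))
  obtain ⟨x, hx⟩ := exists_limX K p (fun n => ((K.obj (op n)).d q p).hom (y n)) (fun n => by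
    rw [comm_apply, ← sub_eq_zero, ← map_sub, ← neg_sub, hy, map_neg, d_iCycles_apply, neg_zero])
  have hdx : ((limit K).d p (p + 1)).hom x = 0 := by
    apply limX_ext
    intro n
    rw [comm_apply, hx, d_d_apply, map_zero]
  obtain ⟨z, hz⟩ := exists_cycle (limit K) p (p + 1) (by apply (ComplexShape.up ℤ).next_eq'; simp)
    x hdx
  refine ⟨⟨(y, z, c), ⟨fun n => ?_, fun n => ?_⟩⟩, ?_⟩
  · change ((limit.π K (op n)).f p).hom (((limit K).iCycles p).hom z) = _
    rw [hz, hx]
  · exact (hy n).symm
  · change QuotientAddGroup.mk _ = QuotientAddGroup.mk _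
    congr 1
    funext n
    exact hc n

theorem φ_eq_zero_iff (w : W K p q) : φ K p q w = 0 ↔ ψ K p q w = 0 := by
  obtain ⟨⟨y, z, c⟩, ⟨h1, h2⟩⟩ := w
  change ((limit K).homologyπ p).hom z = 0 ↔
    (QuotientAddGroup.mk (fun n => ((K.obj (op n)).homologyπ q).hom (c n)) : L1 K q) = 0
  replace h1 : ∀ n : ℕ, ((limit.π K (op n)).f p).hom (((limit K).iCycles p).hom z) =
      ((K.obj (op n)).d q p).hom (y n) := h1
  replace h2 : ∀ n : ℕ, ((K.obj (op n)).iCycles q).hom (c n) =
    y n - ((tt K n).f q).hom (y (n + 1)) := h2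
  rw [QuotientAddGroup.eq_zero_iff]
  constructor
  · intro hz
    obtain ⟨v, hv⟩ := exists_boundary (limit K) q p (prev_p p q hqp) z hz
    have h3 : ∀ n, ((K.obj (op n)).d q p).hom (y n - ((limit.π K (op n)).f q).hom v) = 0 := by
      intro n
      rw [map_sub, ← h1, ← hv, iCycles_toCycles_apply, comm_apply, sub_self]
    choose e he using fun n => exists_cycle (K.obj (op n)) q p (next_q p q hqp) _ (h3 n)
    refine ⟨fun n => ((K.obj (op n)).homologyπ q).hom (e n), ?_⟩
    funext n
    change ((K.obj (op n)).homologyπ q).hom (e n) -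
      (HomologicalComplex.homologyMap (tt K n) q).hom (((K.obj (op (n + 1))).homologyπ q).hom
        (e (n + 1))) = _
    rw [homologyMap_π_apply, ← map_sub]
    congr 1
    apply iCycles_injective
    rw [map_sub, iCycles_cyclesMap_apply, he, he, h2, map_sub, π_tt]
    abel
  · rintro ⟨h, hh⟩
    choose e he using fun n => homologyπ_surjective (K.obj (op n)) q (h n)
    have h3 : ∀ n, ((K.obj (op n)).homologyπ q).hom (c n - e n +
        (HomologicalComplex.cyclesMap (tt K n) q).hom (e (n + 1))) = 0 := by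
      intro n
      have h4 : h n - (HomologicalComplex.homologyMap (tt K n) q).hom (h (n + 1)) =
        ((K.obj (op n)).homologyπ q).hom (c n) := congrFun hh n
      rw [map_add, map_sub, ← homologyMap_π_apply, he, he, ← h4]
      abel
    choose f hf using fun n => exists_boundary (K.obj (op n)) (q - 1) q (prev_q q) _ (h3 n)
    obtain ⟨g, hg⟩ := exists_shift K hK (q - 1) f
    obtain ⟨v, hv⟩ := exists_limX K q (fun n => y n - ((K.obj (op n)).iCycles q).hom (e n) -
      ((K.obj (op n)).d (q - 1) q).hom (g n)) (fun n => by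
        have h5 := congrArg ((K.obj (op n)).iCycles q).hom (hf n)
        rw [iCycles_toCycles_apply, map_add, map_sub, h2, iCycles_cyclesMap_apply, ← hg, map_sub,
          ← comm_apply] at h5
        rw [map_sub, map_sub]
        have h6 := sub_eq_zero.2 h5
        rw [← sub_eq_zero, ← h6]
        abel)
    have h7 : ((limit K).toCycles q p).hom v = z := by
      apply iCycles_injective
      apply limX_ext
      intro n
      rw [iCycles_toCycles_apply, comm_apply, hv, map_sub, map_sub, d_iCycles_apply, d_d_apply, h1,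
        sub_zero, sub_zero]
    rw [← h7, π_toCycles_apply]

omit hK in
theorem homologyMap_eq_zero_iff (x : (limit K).homology p) :
    (∀ n : ℕ, (HomologicalComplex.homologyMap (limit.π K (op n)) p).hom x = 0) ↔
      ∃ w, φ K p q w = x := by
  constructor
  · intro hx
    obtain ⟨z, rfl⟩ := homologyπ_surjective (limit K) p x
    have h3 : ∀ n : ℕ, ((K.obj (op n)).homologyπ p).hom
        ((HomologicalComplex.cyclesMap (limit.π K (op n)) p).hom z) = 0 := fun n => by
      rw [← homologyMap_π_apply, hx]
    choose y hy using fun n => exists_boundary (K.obj (op n)) q p (prev_p p q hqp) _ (h3 n)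
    have h1 : ∀ n : ℕ, ((limit.π K (op n)).f p).hom (((limit K).iCycles p).hom z) =
      ((K.obj (op n)).d q p).hom (y n) := fun n => by
      rw [← iCycles_cyclesMap_apply, ← hy, iCycles_toCycles_apply]
    have h4 : ∀ n : ℕ, ((K.obj (op n)).d q p).hom (y n - ((tt K n).f q).hom (y (n + 1))) = 0 := by
      intro n
      rw [map_sub, ← comm_apply, ← h1, ← h1, π_tt, sub_self]
    choose c hc using fun n => exists_cycle (K.obj (op n)) q p (next_q p q hqp) _ (h4 n)
    exact ⟨⟨(y, z, c), ⟨h1, hc⟩⟩, rfl⟩
  · rintro ⟨⟨⟨y, z, c⟩, ⟨h1, h2⟩⟩, rfl⟩ n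
    replace h1 : ∀ n : ℕ, ((limit.π K (op n)).f p).hom (((limit K).iCycles p).hom z) =
      ((K.obj (op n)).d q p).hom (y n) := h1
    change (HomologicalComplex.homologyMap (limit.π K (op n)) p).hom
      (((limit K).homologyπ p).hom z) = 0
    have h5 : (HomologicalComplex.cyclesMap (limit.π K (op n)) p).hom z =
        ((K.obj (op n)).toCycles q p).hom (y n) := by
      apply iCycles_injective
      rw [iCycles_cyclesMap_apply, h1, iCycles_toCycles_apply]
    rw [homologyMap_π_apply, h5, π_toCycles_apply]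

/-- The Milnor sequence. -/
theorem main :
    Function.Surjective (limit.post K (HomologicalComplex.homologyFunctor _ _ p)).hom ∧
      Nonempty ((limit.post K (HomologicalComplex.homologyFunctor _ _ p)).hom.ker ≃+ L1 K q) := by
  have hpost : ∀ (h : ((limit K).homology p : AddCommGrpCat)) (a : ℕᵒᵖ),
      (limit.π (K ⋙ HomologicalComplex.homologyFunctor _ _ p) a).hom
        ((limit.post K (HomologicalComplex.homologyFunctor _ _ p)).hom h) =
      (HomologicalComplex.homologyMap (limit.π K a) p).hom h := fun h a =>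
    congrArg (fun g => g.hom h) (limit.post_π K (HomologicalComplex.homologyFunctor _ _ p) a)
  constructor
  · intro s
    obtain ⟨h, hh⟩ := exists_homology_lift nat_cof q p (p + 1) (prev_p p q hqp)
      (by apply (ComplexShape.up ℤ).next_eq'; simp) (ML K hK q)
      (limit.cone K) (hlim K p) (hlim K _)
      ⟨fun a => (limit.π (K ⋙ HomologicalComplex.homologyFunctor _ _ p) a).hom s,
        fun {a b} f => congrArg (fun g => g.hom s)
          (limit.w (K ⋙ HomologicalComplex.homologyFunctor _ _ p) f)⟩
    refine ⟨h, ?_⟩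
    apply Concrete.limit_ext
    intro a
    exact (hpost h a).trans (hh a)
  · refine nonempty_equiv (φ K p q) (ψ K p q) (ψ_surjective K p q hK)
      (limit.post K (HomologicalComplex.homologyFunctor _ _ p)).hom
      (fun x => Iff.trans ?_ (homologyMap_eq_zero_iff K p q hqp x))
      (φ_eq_zero_iff K p q hK hqp)
    constructor
    · intro hx n
      exact (hpost x _).symm.trans ((congrArg _ hx).trans (map_zero _))
    · intro hx
      apply Concrete.limit_ext
      intro a
      exact (hpost x a).trans ((hx a.unop).trans (map_zero _).symm)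

end

end K357.MilnorCx
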